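import Mathlib

/-! # Determinants of endomorphisms of contractible complexes of finite free modules -/

set_option autoImplicit false
universe u

namespace Groth.Agent.Lib.Helper2.DetCx

variable {R : Type*} [CommRing R]

section Sylvester
variable {M N : Type*} [AddCommGroup M] [Module R M] [Module.Free R M] [Module.Finite R M]
  [AddCommGroup N] [Module R N] [Module.Free R N] [Module.Finite R N]

/-- Sylvester's determinant identity for linear maps between finite free modules. -/
theorem det_one_add_comp_comm (f : M →ₗ[R] N) (g : N →ₗ[R] M) :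
    LinearMap.det (1 + g ∘ₗ f) = LinearMap.det (1 + f ∘ₗ g) := by
  classical
  let bM := Module.Free.chooseBasis R M
  let bN := Module.Free.chooseBasis R N
  rw [← LinearMap.det_toMatrix bM, ← LinearMap.det_toMatrix bN]
  have h1 : LinearMap.toMatrix bM bM (1 + g ∘ₗ f) =
      1 + LinearMap.toMatrix bN bM g * LinearMap.toMatrix bM bN f := by
    rw [map_add, LinearMap.toMatrix_comp bM bN bM]
    congr 1
    exact LinearMap.toMatrix_one bM
  have h2 : LinearMap.toMatrix bN bN (1 + f ∘ₗ g) =
      1 + LinearMap.toMatrix bM bN f * LinearMap.toMatrix bN bM g := by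
    rw [map_add, LinearMap.toMatrix_comp bN bM bN]
    congr 1
    exact LinearMap.toMatrix_one bN
  rw [h1, h2, Matrix.det_one_add_mul_comm]

end Sylvester

section Idem
variable {M : Type*} [AddCommGroup M] [Module R M] [Module.Free R M] [Module.Finite R M]

/-- Block-triangular determinant with respect to an idempotent. -/
theorem det_eq_mul_of_idem (e Φ : Module.End R M) (he : e * e = e) (h : (1 - e) * Φ * e = 0) :
    LinearMap.det Φ = LinearMap.det ((1 - e) * Φ * (1 - e) + e) * LinearMap.det (e * Φ * e + (1 - e)) := by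
  set f := 1 - e with hf
  have hfe : f * e = 0 := by rw [hf, sub_mul, one_mul, he, sub_self]
  have hef : e * f = 0 := by rw [hf, mul_sub, mul_one, he, sub_self]
  have hff : f * f = f := by rw [hf, sub_mul, one_mul, mul_sub, mul_one, he, sub_self, sub_zero]
  have hsum : e + f = 1 := by rw [hf]; abel
  have hΦ : Φ = (f * Φ * f + e) * (1 + e * Φ * f) * (e * Φ * e + f) := by
    have h1 : (1 + e * Φ * f) * (e * Φ * e + f) = e * Φ * e + f + e * Φ * f := by
      rw [add_mul, one_mul, mul_add]
      have a1 : e * Φ * f * (e * Φ * e) = 0 := by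
        rw [show e * Φ * f * (e * Φ * e) = e * Φ * (f * e) * Φ * e by noncomm_ring, hfe]; simp
      have a2 : e * Φ * f * f = e * Φ * f := by rw [mul_assoc, hff]
      rw [a1, a2, zero_add]
    rw [mul_assoc, h1]
    have b1 : (f * Φ * f + e) * (e * Φ * e + f + e * Φ * f) =
        f * Φ * (f * e) * Φ * e + f * Φ * (f * f) + f * Φ * (f * e) * Φ * f +
          (e * e) * Φ * e + e * f + (e * e) * Φ * f := by noncomm_ring
    rw [b1, hfe, hff, hef, he]
    simp only [mul_zero, zero_mul, zero_add, add_zero]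
    have c1 : Φ = (e + f) * Φ * (e + f) := by rw [hsum, one_mul, mul_one]
    have c2 : (e + f) * Φ * (e + f) = e * Φ * e + e * Φ * f + f * Φ * e + f * Φ * f := by
      noncomm_ring
    conv_lhs => rw [c1, c2, h, add_zero]
    abel
  have hdet1 : LinearMap.det (1 + e * Φ * f) = 1 := by
    have : (1 : Module.End R M) + e * Φ * f = 1 + e ∘ₗ (Φ * f) := by
      rw [mul_assoc]; rfl
    rw [this, det_one_add_comp_comm]
    have : (Φ * f) ∘ₗ e = 0 := by
      change Φ * f * e = 0
      rw [mul_assoc, hfe, mul_zero]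
    rw [this, add_zero, map_one]
  conv_lhs => rw [hΦ]
  rw [map_mul, map_mul, hdet1, mul_one]

end Idem

section Step
variable {C C' : Type*} [AddCommGroup C] [Module R C] [Module.Free R C] [Module.Finite R C]
  [AddCommGroup C'] [Module R C'] [Module.Free R C'] [Module.Finite R C']

/-- Transfer of the `f`-block determinant on `C` to the `e`-block determinant on `C'`. -/
theorem det_block_transfer (d : C →ₗ[R] C') (s : C' →ₗ[R] C) (Φ : Module.End R C)
    (Φ' : Module.End R C') (hdsd : ∀ x, d (s (d x)) = d x) (hΦ : ∀ x, Φ' (d x) = d (Φ x)) :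
    LinearMap.det ((s ∘ₗ d) * Φ * (s ∘ₗ d) + (1 - s ∘ₗ d)) =
      LinearMap.det ((d ∘ₗ s) * Φ' * (d ∘ₗ s) + (1 - d ∘ₗ s)) := by
  let Mm : C →ₗ[R] C' := d ∘ₗ (Φ - 1) ∘ₗ (s ∘ₗ d)
  have hL : (s ∘ₗ d) * Φ * (s ∘ₗ d) + (1 - s ∘ₗ d) = 1 + s ∘ₗ Mm := by
    refine LinearMap.ext fun x => ?_
    simp only [Mm, LinearMap.add_apply, Module.End.mul_apply, LinearMap.comp_apply,
      LinearMap.sub_apply, Module.End.one_apply, map_sub, hdsd]
    abel
  have hMs : Mm ∘ₗ s = (Φ' - 1) * (d ∘ₗ s) := by
    refine LinearMap.ext fun y => ?_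
    simp only [Mm, Module.End.mul_apply, LinearMap.comp_apply,
      LinearMap.sub_apply, Module.End.one_apply, map_sub, hdsd, ← hΦ]
  have hR : (d ∘ₗ s) * Φ' * (d ∘ₗ s) + (1 - d ∘ₗ s) = 1 + (Φ' - 1) * (d ∘ₗ s) := by
    refine LinearMap.ext fun y => ?_
    simp only [LinearMap.add_apply, Module.End.mul_apply, LinearMap.comp_apply,
      LinearMap.sub_apply, Module.End.one_apply, hΦ, hdsd]
    abel
  rw [hL, hR, det_one_add_comp_comm, hMs]

end Step

end Groth.Agent.Lib.Helper2.DetCx
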