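import Mathlib

/-! # `det(1 - X u)` for block triangular endomorphisms -/

set_option autoImplicit false
universe u

namespace Groth.Agent.Lib.Helper2.DetCx

open Polynomial Module

variable {A : Type*} [CommRing A]

section
variable {M : Type*} [AddCommGroup M] [Module A M]

/-- `det(1 - X f)` in terms of a matrix of `f`. -/
theorem det_one_sub_X_smul_baseChange {ι : Type*} [Fintype ι] [DecidableEq ι] (b : Basis ι A M)
    (f : M →ₗ[A] M) :
    LinearMap.det (LinearMap.id - (X : A[X]) • f.baseChange A[X]) =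
      (LinearMap.toMatrix b b f).charpolyRev := by
  rw [← LinearMap.det_toMatrix (Algebra.TensorProduct.basis A[X] b), Matrix.charpolyRev]
  congr 1
  have h1 := (LinearMap.toMatrix (Algebra.TensorProduct.basis A[X] b)
    (Algebra.TensorProduct.basis A[X] b)).map_sub LinearMap.id
      ((X : A[X]) • f.baseChange A[X])
  have h2 := (LinearMap.toMatrix (Algebra.TensorProduct.basis A[X] b)
    (Algebra.TensorProduct.basis A[X] b)).map_smul (X : A[X]) (f.baseChange A[X])
  refine (h1.trans ?_)
  change (LinearMap.toMatrix (Algebra.TensorProduct.basis A[X] b)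
    (Algebra.TensorProduct.basis A[X] b)) LinearMap.id -
      (LinearMap.toMatrix (Algebra.TensorProduct.basis A[X] b)
        (Algebra.TensorProduct.basis A[X] b)) ((X : A[X]) • f.baseChange A[X]) = _
  rw [h2, LinearMap.toMatrix_baseChange, LinearMap.toMatrix_id]
  rfl

end

section Block
variable {M M' : Type*} [AddCommGroup M] [Module A M] [Module.Free A M] [Module.Finite A M]
  [AddCommGroup M'] [Module A M'] [Module.Free A M'] [Module.Finite A M']

/-- Lower block triangular endomorphism of a product. -/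
def tri (u : M →ₗ[A] M) (u' : M' →ₗ[A] M') (g : M →ₗ[A] M') : (M × M') →ₗ[A] (M × M') :=
  LinearMap.prod (u ∘ₗ LinearMap.fst A _ _) (g ∘ₗ LinearMap.fst A _ _ + u' ∘ₗ LinearMap.snd A _ _)

theorem toMatrix_tri {ι ι' : Type*} [Fintype ι] [DecidableEq ι] [Fintype ι'] [DecidableEq ι']
    (b : Basis ι A M) (b' : Basis ι' A M') (u : M →ₗ[A] M) (u' : M' →ₗ[A] M') (g : M →ₗ[A] M') :
    LinearMap.toMatrix (b.prod b') (b.prod b') (tri u u' g) =
      Matrix.fromBlocks (LinearMap.toMatrix b b u) 0 (LinearMap.toMatrix b b' g)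
        (LinearMap.toMatrix b' b' u') := by
  ext (i | i) (j | j) <;> simp [LinearMap.toMatrix, tri]

theorem charpolyRev_fromBlocks_zero₁₂ {ι ι' : Type*} [Fintype ι] [DecidableEq ι] [Fintype ι']
    [DecidableEq ι'] (Mu : Matrix ι ι A) (G : Matrix ι' ι A) (Mu' : Matrix ι' ι' A) :
    (Matrix.fromBlocks Mu 0 G Mu').charpolyRev = Mu.charpolyRev * Mu'.charpolyRev := by
  unfold Matrix.charpolyRev
  rw [← Matrix.det_fromBlocks_zero₁₂ _ (-((X : A[X]) • G.map C))]
  congr 1
  ext (i | i) (j | j) <;> simp [Matrix.one_apply]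

theorem det_tri (u : M →ₗ[A] M) (u' : M' →ₗ[A] M') (g : M →ₗ[A] M') :
    LinearMap.det (LinearMap.id - (X : A[X]) • (tri u u' g).baseChange A[X]) =
      LinearMap.det (LinearMap.id - (X : A[X]) • u.baseChange A[X]) *
        LinearMap.det (LinearMap.id - (X : A[X]) • u'.baseChange A[X]) := by
  classical
  let b := Module.Free.chooseBasis A M
  let b' := Module.Free.chooseBasis A M'
  rw [det_one_sub_X_smul_baseChange (b.prod b'), det_one_sub_X_smul_baseChange b,
    det_one_sub_X_smul_baseChange b', toMatrix_tri, charpolyRev_fromBlocks_zero₁₂]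

end Block

end Groth.Agent.Lib.Helper2.DetCx
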