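import Mathlib

/-! # The cone of a homotopy equivalence of ℤ-graded families is contractible (explicit formulas) -/

set_option autoImplicit false
universe u

namespace Groth.Agent.Lib.Helper2.DetCx

variable {A : Type*} [CommRing A]
variable {P Q : ℤ → Type*} [∀ i, AddCommGroup (P i)] [∀ i, Module A (P i)]
  [∀ i, AddCommGroup (Q i)] [∀ i, Module A (Q i)]

/-- Chain-level data of a homotopy equivalence `α : P → Q` with homotopy inverse `β`, together with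
endomorphisms `u`, `u'` commuting with `α` up to the homotopy `g`. -/
structure ConeData (A : Type*) [CommRing A] (P Q : ℤ → Type*) [∀ i, AddCommGroup (P i)]
    [∀ i, Module A (P i)] [∀ i, AddCommGroup (Q i)] [∀ i, Module A (Q i)] where
  dP : ∀ j, P j →ₗ[A] P (j + 1)
  dQ : ∀ j, Q j →ₗ[A] Q (j + 1)
  α : ∀ j, P j →ₗ[A] Q j
  β : ∀ j, Q j →ₗ[A] P j
  H : ∀ j, P (j + 1) →ₗ[A] P j
  H' : ∀ j, Q (j + 1) →ₗ[A] Q j
  u : ∀ j, P j →ₗ[A] P j
  u' : ∀ j, Q j →ₗ[A] Q j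
  g : ∀ j, P (j + 1) →ₗ[A] Q j
  dP_dP : ∀ j x, dP (j + 1) (dP j x) = 0
  dQ_dQ : ∀ j x, dQ (j + 1) (dQ j x) = 0
  α_comm : ∀ j x, α (j + 1) (dP j x) = dQ j (α j x)
  β_comm : ∀ j x, β (j + 1) (dQ j x) = dP j (β j x)
  u_comm : ∀ j x, u (j + 1) (dP j x) = dP j (u j x)
  u'_comm : ∀ j x, u' (j + 1) (dQ j x) = dQ j (u' j x)
  hH : ∀ j (x : P (j + 1)), β (j + 1) (α (j + 1) x) = H (j + 1) (dP (j + 1) x) + dP j (H j x) + x
  hH' : ∀ j (y : Q (j + 1)),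
    α (j + 1) (β (j + 1) y) = H' (j + 1) (dQ (j + 1) y) + dQ j (H' j y) + y
  hg : ∀ j (x : P (j + 1)),
    α (j + 1) (u (j + 1) x) = g (j + 1) (dP (j + 1) x) + dQ j (g j x) + u' (j + 1) (α (j + 1) x)

namespace ConeData

variable (D : ConeData A P Q)

/-- The terms of the cone. -/
abbrev Cn (P Q : ℤ → Type*) (j : ℤ) : Type _ := P (j + 1) × Q j

/-- `θ = H'α − αH`. -/
def θ (j : ℤ) : P (j + 1) →ₗ[A] Q j := D.H' j ∘ₗ D.α (j + 1) - D.α j ∘ₗ D.H j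

theorem θ_apply (j : ℤ) (z : P (j + 1)) :
    D.θ j z = D.H' j (D.α (j + 1) z) - D.α j (D.H j z) := rfl

theorem dθ (j : ℤ) (z : P (j + 1)) : D.dQ j (D.θ j z) + D.θ (j + 1) (D.dP (j + 1) z) = 0 := by
  have e1 := D.hH' j (D.α (j + 1) z)
  have e2 := congrArg (D.α (j + 1)) (D.hH j z)
  simp only [map_add] at e2
  rw [D.α_comm] at e2
  rw [θ_apply, θ_apply, map_sub, D.α_comm]
  have e3 : D.dQ j (D.H' j (D.α (j + 1) z)) + D.H' (j + 1) (D.dQ (j + 1) (D.α (j + 1) z)) =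
      D.α (j + 1) (D.H (j + 1) (D.dP (j + 1) z)) + D.dQ j (D.α j (D.H j z)) := by
    have := e1.symm.trans e2
    have h2 : D.H' (j + 1) (D.dQ (j + 1) (D.α (j + 1) z)) + D.dQ j (D.H' j (D.α (j + 1) z)) =
        D.α (j + 1) (D.H (j + 1) (D.dP (j + 1) z)) + D.dQ j (D.α j (D.H j z)) :=
      add_right_cancel this
    exact (add_comm _ _).trans h2
  calc D.dQ j (D.H' j (D.α (j + 1) z)) - D.dQ j (D.α j (D.H j z)) +
        (D.H' (j + 1) (D.dQ (j + 1) (D.α (j + 1) z)) -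
          D.α (j + 1) (D.H (j + 1) (D.dP (j + 1) z)))
      = (D.dQ j (D.H' j (D.α (j + 1) z)) + D.H' (j + 1) (D.dQ (j + 1) (D.α (j + 1) z))) -
        (D.α (j + 1) (D.H (j + 1) (D.dP (j + 1) z)) + D.dQ j (D.α j (D.H j z))) := by abel
    _ = 0 := by rw [e3, sub_self]

/-- The cone differential. -/
def dC (j : ℤ) : Cn P Q j →ₗ[A] Cn P Q (j + 1) :=
  LinearMap.prod (-(D.dP (j + 1) ∘ₗ LinearMap.fst A _ _))
    (D.α (j + 1) ∘ₗ LinearMap.fst A _ _ + D.dQ j ∘ₗ LinearMap.snd A _ _)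

/-- The contraction of the cone. -/
def sC (j : ℤ) : Cn P Q (j + 1) →ₗ[A] Cn P Q j :=
  LinearMap.prod (D.H (j + 1) ∘ₗ LinearMap.fst A _ _ + D.β (j + 1) ∘ₗ LinearMap.snd A _ _)
    (D.θ j ∘ₗ D.H (j + 1) ∘ₗ LinearMap.fst A _ _ - D.H' j ∘ₗ LinearMap.snd A _ _ +
      D.θ j ∘ₗ D.β (j + 1) ∘ₗ LinearMap.snd A _ _)

/-- The endomorphism of the cone. -/
def UC (j : ℤ) : Cn P Q j →ₗ[A] Cn P Q j :=
  LinearMap.prod (D.u (j + 1) ∘ₗ LinearMap.fst A _ _)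
    (-(D.g j ∘ₗ LinearMap.fst A _ _) + D.u' j ∘ₗ LinearMap.snd A _ _)

theorem dC_apply (j : ℤ) (x : Cn P Q j) :
    D.dC j x = (-(D.dP (j + 1) x.1), D.α (j + 1) x.1 + D.dQ j x.2) := rfl

theorem sC_apply (j : ℤ) (x : Cn P Q (j + 1)) :
    D.sC j x = (D.H (j + 1) x.1 + D.β (j + 1) x.2,
      D.θ j (D.H (j + 1) x.1) - D.H' j x.2 + D.θ j (D.β (j + 1) x.2)) := rfl

theorem UC_apply (j : ℤ) (x : Cn P Q j) :
    D.UC j x = (D.u (j + 1) x.1, -(D.g j x.1) + D.u' j x.2) := rfl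

theorem dC_dC (j : ℤ) (x : Cn P Q j) : D.dC (j + 1) (D.dC j x) = 0 := by
  rw [dC_apply, dC_apply]
  refine Prod.ext ?_ ?_
  · simp only [map_neg, D.dP_dP, neg_zero, Prod.fst_zero]
  · simp only [map_neg, map_add, D.α_comm, D.dQ_dQ, Prod.snd_zero]
    abel

theorem UC_dC (j : ℤ) (x : Cn P Q j) : D.UC (j + 1) (D.dC j x) = D.dC j (D.UC j x) := by
  rw [dC_apply, UC_apply, UC_apply, dC_apply]
  refine Prod.ext ?_ ?_
  · simp only [map_neg, D.u_comm]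
  · simp only [map_neg, map_add, D.u'_comm, D.hg j x.1, neg_neg]
    abel

theorem dC_sC (j : ℤ) (x : Cn P Q (j + 1)) :
    D.dC j (D.sC j x) + D.sC (j + 1) (D.dC (j + 1) x) = x := by
  obtain ⟨p, q⟩ := x
  rw [sC_apply, dC_apply, dC_apply, sC_apply]
  refine Prod.ext ?_ ?_
  · simp only [Prod.fst_add, map_add, map_neg, D.hH (j + 1) p, D.β_comm]
    abel
  · simp only [Prod.snd_add, map_add, map_sub, map_neg]
    have E1 := D.hH' j q
    have E2 := congrArg (D.θ (j + 1)) (D.hH (j + 1) p)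
    simp only [map_add] at E2
    have E3 := D.θ_apply (j + 1) p
    have E4 := D.dθ j (D.H (j + 1) p)
    have E5 := D.dθ j (D.β (j + 1) q)
    have E6 := congrArg (D.θ (j + 1)) (D.β_comm (j + 1) q)
    rw [E2, E6, E3, E1]
    rw [← eq_neg_iff_add_eq_zero] at E4 E5
    rw [E4, E5]
    abel

end ConeData

end Groth.Agent.Lib.Helper2.DetCx
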