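import Groth.Agent.Lib.Helper2.DetCx.Basic

/-! # Even/odd determinant products for contractible ℤ-graded families -/

set_option autoImplicit false
universe u

namespace Groth.Agent.Lib.Helper2.DetCx

variable {R : Type*} [CommRing R]
variable {C : ℤ → Type*} [∀ i, AddCommGroup (C i)] [∀ i, Module R (C i)]
  [∀ i, Module.Free R (C i)] [∀ i, Module.Finite R (C i)]
  (d : ∀ i, C i →ₗ[R] C (i + 1)) (s : ∀ i, C (i + 1) →ₗ[R] C i) (Φ : ∀ i, Module.End R (C i))

/-- The `e`-block determinant on `C (i+1)`, `e = d_i s_i`. -/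
noncomputable def Xd (i : ℤ) : R :=
  LinearMap.det ((d i ∘ₗ s i) * Φ (i + 1) * (d i ∘ₗ s i) + (1 - d i ∘ₗ s i))

variable {d s Φ}

theorem det_eq_Xd_mul (hdd : ∀ i x, d (i + 1) (d i x) = 0)
    (hs : ∀ i x, d i (s i x) + s (i + 1) (d (i + 1) x) = x)
    (hΦ : ∀ i x, Φ (i + 1) (d i x) = d i (Φ i x)) (i : ℤ) :
    LinearMap.det (Φ (i + 1)) = Xd d s Φ i * Xd d s Φ (i + 1) := by
  have hdsd : ∀ j y, d j (s j (d j y)) = d j y := by
    intro j y
    have := hs j (d j y)
    rwa [hdd, map_zero, add_zero] at this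
  set e : Module.End R (C (i + 1)) := d i ∘ₗ s i with he_def
  have hf : (1 : Module.End R (C (i + 1))) - e = s (i + 1) ∘ₗ d (i + 1) := by
    refine LinearMap.ext fun x => ?_
    have := hs i x
    simp only [he_def, LinearMap.sub_apply, Module.End.one_apply, LinearMap.comp_apply]
    exact sub_eq_of_eq_add' this.symm
  have he : e * e = e := by
    refine LinearMap.ext fun x => ?_
    simp only [he_def, Module.End.mul_apply, LinearMap.comp_apply, hdsd]
  have h0 : (1 - e) * Φ (i + 1) * e = 0 := by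
    rw [hf]
    refine LinearMap.ext fun x => ?_
    simp only [he_def, Module.End.mul_apply, LinearMap.comp_apply, hΦ, hdd, map_zero,
      LinearMap.zero_apply]
  rw [det_eq_mul_of_idem e (Φ (i + 1)) he h0, mul_comm]
  congr 1
  rw [hf]
  have he' : e = 1 - s (i + 1) ∘ₗ d (i + 1) := by rw [← hf]; abel
  rw [he']
  exact det_block_transfer (d (i + 1)) (s (i + 1)) (Φ (i + 1)) (Φ (i + 1 + 1)) (hdsd (i + 1))
    (hΦ (i + 1))

theorem Xd_eq_one_of_subsingleton (i : ℤ) [Subsingleton (C (i + 1))] : Xd d s Φ i = 1 :=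
  LinearMap.det_eq_one_of_subsingleton _

/-- The shift equivalence between even and odd integers. -/
def evenOdd : {j : ℤ // Even j} ≃ {i : ℤ // Odd i} where
  toFun j := ⟨j.1 - 1, j.2.sub_odd odd_one⟩
  invFun i := ⟨i.1 + 1, i.2.add_odd odd_one⟩
  left_inv j := Subtype.ext (by simp)
  right_inv i := Subtype.ext (by simp)

/-- The shift equivalence between odd and even integers. -/
def oddEven : {j : ℤ // Odd j} ≃ {i : ℤ // Even i} where
  toFun j := ⟨j.1 - 1, j.2.sub_odd odd_one⟩
  invFun i := ⟨i.1 + 1, i.2.add_odd odd_one⟩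
  left_inv j := Subtype.ext (by simp)
  right_inv i := Subtype.ext (by simp)

theorem finprod_even_eq_finprod_odd (a b : ℤ)
    (hC : ∀ i, i < a ∨ b < i → Subsingleton (C i))
    (hdd : ∀ i x, d (i + 1) (d i x) = 0)
    (hs : ∀ i x, d i (s i x) + s (i + 1) (d (i + 1) x) = x)
    (hΦ : ∀ i x, Φ (i + 1) (d i x) = d i (Φ i x)) :
    ∏ᶠ j : {j : ℤ // Even j}, LinearMap.det (Φ j.1) =
      ∏ᶠ j : {j : ℤ // Odd j}, LinearMap.det (Φ j.1) := by
  classical
  let D : ℤ → R := fun j => LinearMap.det (Φ j)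
  let X : ℤ → R := Xd d s Φ
  have hD : ∀ j, D j = X (j - 1) * X j := by
    intro j
    have h1 : D j = D (j - 1 + 1) := congrArg D (sub_add_cancel j 1).symm
    have h2 : X j = X (j - 1 + 1) := congrArg X (sub_add_cancel j 1).symm
    rw [h1, h2]
    exact det_eq_Xd_mul hdd hs hΦ (j - 1)
  have hXsupp : (Function.mulSupport X) ⊆ Set.Icc (a - 1) (b - 1) := by
    intro i hi
    by_contra hne
    have : i + 1 < a ∨ b < i + 1 := by
      simp only [Set.mem_Icc, not_and_or, not_le] at hne
      rcases hne with h | h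
      · left; lia
      · right; lia
    haveI := hC (i + 1) this
    exact hi (Xd_eq_one_of_subsingleton i)
  have hfinE : (Function.mulSupport fun j : {j : ℤ // Even j} => X j.1).Finite := by
    refine Set.Finite.subset ((Set.finite_Icc (a - 1) (b - 1)).preimage
      Subtype.val_injective.injOn) ?_
    intro j hj
    exact hXsupp hj
  have hfinO : (Function.mulSupport fun j : {j : ℤ // Odd j} => X j.1).Finite := by
    refine Set.Finite.subset ((Set.finite_Icc (a - 1) (b - 1)).preimage
      Subtype.val_injective.injOn) ?_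
    intro j hj
    exact hXsupp hj
  have hfinE' : (Function.mulSupport fun j : {j : ℤ // Even j} => X (j.1 - 1)).Finite := by
    have : (fun j : {j : ℤ // Even j} => X (j.1 - 1)) =
        (fun i : {i : ℤ // Odd i} => X i.1) ∘ evenOdd := rfl
    rw [this]
    exact hfinO.preimage evenOdd.injective.injOn |>.subset (by
      intro j hj; exact hj)
  have hfinO' : (Function.mulSupport fun j : {j : ℤ // Odd j} => X (j.1 - 1)).Finite := by
    have : (fun j : {j : ℤ // Odd j} => X (j.1 - 1)) =
        (fun i : {i : ℤ // Even i} => X i.1) ∘ oddEven := rfl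
    rw [this]
    exact hfinE.preimage oddEven.injective.injOn |>.subset (by
      intro j hj; exact hj)
  have hE : ∏ᶠ j : {j : ℤ // Even j}, D j.1 =
      (∏ᶠ i : {i : ℤ // Odd i}, X i.1) * ∏ᶠ j : {j : ℤ // Even j}, X j.1 := by
    rw [finprod_congr (fun j : {j : ℤ // Even j} => hD j.1), finprod_mul_distrib hfinE' hfinE]
    congr 1
    exact finprod_comp_equiv evenOdd (f := fun i : {i : ℤ // Odd i} => X i.1)
  have hO : ∏ᶠ j : {j : ℤ // Odd j}, D j.1 =
      (∏ᶠ i : {i : ℤ // Even i}, X i.1) * ∏ᶠ j : {j : ℤ // Odd j}, X j.1 := by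
    rw [finprod_congr (fun j : {j : ℤ // Odd j} => hD j.1), finprod_mul_distrib hfinO' hfinO]
    congr 1
    exact finprod_comp_equiv oddEven (f := fun i : {i : ℤ // Even i} => X i.1)
  change ∏ᶠ j : {j : ℤ // Even j}, D j.1 = ∏ᶠ j : {j : ℤ // Odd j}, D j.1
  rw [hE, hO, mul_comm]

end Groth.Agent.Lib.Helper2.DetCx
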