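import Groth.Agent.Lib.Helper2.DetCx.Family
import Groth.Agent.Lib.Helper2.DetCx.Cone
import Groth.Agent.Lib.Helper2.DetCx.Block
import Groth.Prelude.Def_SGA4hB

/-! # `det(1 - ut)` of chain-homotopy-equivalent pairs -/

set_option autoImplicit false
universe u

namespace Groth.Agent.Lib.Helper2.DetCx

open CategoryTheory Polynomial TensorProduct

variable {A : Type u} [CommRing A]

theorem subsingleton_tensor (M : Type*) [AddCommGroup M] [Module A M] [Subsingleton M] :
    Subsingleton (A[X] ⊗[A] M) := by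
  refine ⟨fun x y => ?_⟩
  have h0 : ∀ z : A[X] ⊗[A] M, z = 0 := by
    intro z
    induction z using TensorProduct.induction_on with
    | zero => rfl
    | tmul a m => rw [Subsingleton.elim m 0, TensorProduct.tmul_zero]
    | add a b ha hb => rw [ha, hb, add_zero]
  rw [h0 x, h0 y]

variable (K K' : CochainComplex (ModuleCat.{u} A) ℤ)

section Data
variable {K K'} (α : K ⟶ K') (β : K' ⟶ K) (h : Homotopy (α ≫ β) (𝟙 K))
  (h' : Homotopy (β ≫ α) (𝟙 K')) (u : K ⟶ K) (u' : K' ⟶ K') (h3 : Homotopy (u ≫ α) (α ≫ u'))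

theorem d_d_apply (L : CochainComplex (ModuleCat.{u} A) ℤ) (j : ℤ) (x : L.X j) :
    (L.d (j + 1) (j + 1 + 1)).hom ((L.d j (j + 1)).hom x) = 0 := by
  have := ConcreteCategory.congr_hom (L.d_comp_d j (j + 1) (j + 1 + 1)) x
  exact this

theorem comm_apply {L L' : CochainComplex (ModuleCat.{u} A) ℤ} (f : L ⟶ L') (j : ℤ) (x : L.X j) :
    (f.f (j + 1)).hom ((L.d j (j + 1)).hom x) = (L'.d j (j + 1)).hom ((f.f j).hom x) := by
  have := ConcreteCategory.congr_hom (f.comm j (j + 1)) x
  exact this.symm

theorem homotopy_apply {L L' : CochainComplex (ModuleCat.{u} A) ℤ} {f g : L ⟶ L'}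
    (hh : Homotopy f g) (j : ℤ) (x : L.X (j + 1)) :
    (f.f (j + 1)).hom x = (hh.hom (j + 1 + 1) (j + 1)).hom ((L.d (j + 1) (j + 1 + 1)).hom x) +
      (L'.d j (j + 1)).hom ((hh.hom (j + 1) j).hom x) + (g.f (j + 1)).hom x := by
  have hc := hh.comm (j + 1)
  rw [dNext_eq hh.hom (show (ComplexShape.up ℤ).Rel (j + 1) (j + 1 + 1) from rfl),
    prevD_eq hh.hom (show (ComplexShape.up ℤ).Rel j (j + 1) from rfl)] at hc
  have := ConcreteCategory.congr_hom hc x
  exact this

/-- The cone data attached to a homotopy equivalence of complexes. -/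
noncomputable def coneData : ConeData A (fun j => K.X j) (fun j => K'.X j) where
  dP j := (K.d j (j + 1)).hom
  dQ j := (K'.d j (j + 1)).hom
  α j := (α.f j).hom
  β j := (β.f j).hom
  H j := (h.hom (j + 1) j).hom
  H' j := (h'.hom (j + 1) j).hom
  u j := (u.f j).hom
  u' j := (u'.f j).hom
  g j := (h3.hom (j + 1) j).hom
  dP_dP j x := d_d_apply K j x
  dQ_dQ j x := d_d_apply K' j x
  α_comm j x := comm_apply α j x
  β_comm j x := comm_apply β j x
  u_comm j x := comm_apply u j x
  u'_comm j x := comm_apply u' j x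
  hH j x := homotopy_apply h j x
  hH' j y := homotopy_apply h' j y
  hg j x := homotopy_apply h3 j x

include α β h h' h3 in
theorem detEven_mul_detOdd (a b : ℤ)
    (hKz : ∀ i, i < a ∨ b < i → Subsingleton (K.X i))
    (hK'z : ∀ i, i < a ∨ b < i → Subsingleton (K'.X i))
    (hK : ∀ i : ℤ, Module.Finite A (K.X i) ∧ Module.Free A (K.X i))
    (hK' : ∀ i : ℤ, Module.Finite A (K'.X i) ∧ Module.Free A (K'.X i)) :
    SGA4h.detEven K u * SGA4h.detOdd K' u' = SGA4h.detOdd K u * SGA4h.detEven K' u' := by
  classical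
  haveI : ∀ i, Module.Finite A (K.X i) := fun i => (hK i).1
  haveI : ∀ i, Module.Free A (K.X i) := fun i => (hK i).2
  haveI : ∀ i, Module.Finite A (K'.X i) := fun i => (hK' i).1
  haveI : ∀ i, Module.Free A (K'.X i) := fun i => (hK' i).2
  let D := coneData α β h h' u u' h3
  -- the family over `A[X]`
  let C : ℤ → Type u := fun j => A[X] ⊗[A] (K.X (j + 1) × K'.X j)
  let d : ∀ j, C j →ₗ[A[X]] C (j + 1) := fun j => (D.dC j).baseChange A[X]
  let s : ∀ j, C (j + 1) →ₗ[A[X]] C j := fun j => (D.sC j).baseChange A[X]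
  let Φ : ∀ j, Module.End A[X] (C j) := fun j =>
    LinearMap.id - (X : A[X]) • (D.UC j).baseChange A[X]
  have hdd : ∀ j x, d (j + 1) (d j x) = 0 := by
    intro j x
    have h0 : D.dC (j + 1) ∘ₗ D.dC j = 0 := LinearMap.ext fun y => D.dC_dC j y
    have := congrArg (fun f => LinearMap.baseChange A[X] f) h0
    simp only [LinearMap.baseChange_comp, LinearMap.baseChange_zero] at this
    exact LinearMap.congr_fun this x
  have hs : ∀ j x, d j (s j x) + s (j + 1) (d (j + 1) x) = x := by
    intro j x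
    have h0 : D.dC j ∘ₗ D.sC j + D.sC (j + 1) ∘ₗ D.dC (j + 1) = LinearMap.id :=
      LinearMap.ext fun y => D.dC_sC j y
    have := congrArg (fun f => LinearMap.baseChange A[X] f) h0
    simp only [LinearMap.baseChange_add, LinearMap.baseChange_comp, LinearMap.baseChange_id] at this
    exact LinearMap.congr_fun this x
  have hΦ : ∀ j x, Φ (j + 1) (d j x) = d j (Φ j x) := by
    intro j x
    have h0 : D.UC (j + 1) ∘ₗ D.dC j = D.dC j ∘ₗ D.UC j := LinearMap.ext fun y => D.UC_dC j y
    have := congrArg (fun f => LinearMap.baseChange A[X] f) h0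
    simp only [LinearMap.baseChange_comp] at this
    have h1 := LinearMap.congr_fun this x
    simp only [Φ, d, LinearMap.sub_apply, LinearMap.id_apply, LinearMap.smul_apply, map_sub,
      map_smul]
    congr 2
  have hC : ∀ i, i < a - 1 ∨ b < i → Subsingleton (C i) := by
    intro i hi
    haveI : Subsingleton (K.X (i + 1)) := hKz (i + 1) (by lia)
    haveI : Subsingleton (K'.X i) := hK'z i (by lia)
    exact subsingleton_tensor _
  have key := finprod_even_eq_finprod_odd (d := d) (s := s) (Φ := Φ) (a - 1) b hC hdd hs hΦ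
  -- identify the determinants
  let DK : ℤ → A[X] := fun i => SGA4h.detOneSub (K.X i) (u.f i)
  let DK' : ℤ → A[X] := fun i => SGA4h.detOneSub (K'.X i) (u'.f i)
  have hdet : ∀ j, LinearMap.det (Φ j) = DK (j + 1) * DK' j := by
    intro j
    have hU : D.UC j = tri (D.u (j + 1)) (D.u' j) (-(D.g j)) := by
      refine LinearMap.ext fun x => ?_
      rfl
    simp only [Φ]
    rw [hU, det_tri]
    rfl
  have hsuppK : Function.mulSupport DK ⊆ Set.Icc a b := by
    intro i hi
    by_contra hne
    simp only [Set.mem_Icc, not_and_or, not_le] at hne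
    haveI : Subsingleton (K.X i) := hKz i hne
    haveI := subsingleton_tensor (A := A) (K.X i)
    exact hi (LinearMap.det_eq_one_of_subsingleton _)
  have hsuppK' : Function.mulSupport DK' ⊆ Set.Icc a b := by
    intro i hi
    by_contra hne
    simp only [Set.mem_Icc, not_and_or, not_le] at hne
    haveI : Subsingleton (K'.X i) := hK'z i hne
    haveI := subsingleton_tensor (A := A) (K'.X i)
    exact hi (LinearMap.det_eq_one_of_subsingleton _)
  have fin1 : ∀ (p : ℤ → Prop) (F : ℤ → A[X]) (c : ℤ), Function.mulSupport F ⊆ Set.Icc a b →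
      (Function.mulSupport fun j : {j : ℤ // p j} => F (j.1 + c)).Finite := by
    intro p F c hF
    refine Set.Finite.subset ((Set.finite_Icc (a - c) (b - c)).preimage
      Subtype.val_injective.injOn) ?_
    intro j hj
    have := hF hj
    simp only [Set.mem_preimage, Set.mem_Icc] at this ⊢
    constructor <;> lia
  have fin0 : ∀ (p : ℤ → Prop) (F : ℤ → A[X]), Function.mulSupport F ⊆ Set.Icc a b →
      (Function.mulSupport fun j : {j : ℤ // p j} => F j.1).Finite := by
    intro p F hF
    have := fin1 p F 0 hF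
    simpa using this
  have hE : ∏ᶠ j : {j : ℤ // Even j}, LinearMap.det (Φ j.1) =
      SGA4h.detOdd K u * SGA4h.detEven K' u' := by
    rw [finprod_congr (fun j : {j : ℤ // Even j} => hdet j.1),
      finprod_mul_distrib (fin1 _ DK 1 hsuppK) (fin0 _ DK' hsuppK')]
    congr 1
    exact finprod_comp_equiv oddEven.symm (f := fun i : {i : ℤ // Odd i} => DK i.1)
  have hO : ∏ᶠ j : {j : ℤ // Odd j}, LinearMap.det (Φ j.1) =
      SGA4h.detEven K u * SGA4h.detOdd K' u' := by
    rw [finprod_congr (fun j : {j : ℤ // Odd j} => hdet j.1),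
      finprod_mul_distrib (fin1 _ DK 1 hsuppK) (fin0 _ DK' hsuppK')]
    congr 1
    exact finprod_comp_equiv evenOdd.symm (f := fun i : {i : ℤ // Even i} => DK i.1)
  rw [← hE, ← hO, key]

end Data

end Groth.Agent.Lib.Helper2.DetCx
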